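import Cfsg.Agent.Lib.ND.Defs
import Cfsg.Agent.Lib.FQ.Max

/-!
# Control of strong fusion: first consequences
-/

set_option autoImplicit false
set_option linter.unusedSectionVars false

namespace Cfsg.Lib.ND

open Subgroup Cfsg.Lib.BG Cfsg.Lib.Transfer Cfsg.Lib.Loc Cfsg.Lib.PLocal Cfsg.Lib.CGT Cfsg.Lib.PU Cfsg.Lib.FQ
open Cfsg.Lib.NF (im Tor Post2 post inf_cent_le tor_map)
open scoped commutatorElement

variable {G : Type*} [Group G] {B D E J M Q S T U W Y : Subgroup G} {Λ : Subgroup (MulAut G)} {a b c n x : G}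

theorem Ev.refl (M D : Subgroup G) (a : G) : Ev M D a a := ⟨1, one_mem _, 1, one_mem _, by simp⟩

theorem Ev.symm (h : Ev M D a b) : Ev M D b a := by
  obtain ⟨c, hc, m, hm, rfl⟩ := h
  exact ⟨c⁻¹, inv_mem hc, m⁻¹, inv_mem hm, by group⟩

theorem Ev.trans (h : Ev M D a b) (k : Ev M D b c) : Ev M D a c := by
  obtain ⟨c, hc, m, hm, rfl⟩ := h
  obtain ⟨d, hd, l, hl, rfl⟩ := k
  exact ⟨d * c, mul_mem hd hc, m * l, mul_mem hm hl, by group⟩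

theorem Ev.anti (h : Ev M D a b) (h1 : U ≤ D) : Ev M U a b :=
  let ⟨c, hc, k⟩ := h; ⟨c, cent_anti h1 hc, k⟩

theorem Ev.conj (h : Ev M D a b) (x : G) : Ev M (x ⋆ D) (x * a) (x * b) := by
  obtain ⟨c, hc, m, hm, rfl⟩ := h
  exact ⟨x * c * x⁻¹, by rw [← conj_centralizer]; exact conj_mem_conj.2 hc, m, hm, by group⟩

theorem Ev.mul (h : Ev M D a b) (hn : n ∈ 𝐍(D)) : Ev M D (n * a) (n * b) := by
  have := h.conj n
  rwa [conj_eq_of_norm hn] at this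

theorem ev_of_cent (hc : c ∈ 𝐂(D)) (a : G) : Ev M D a (c * a) := ⟨c, hc, 1, one_mem _, by simp⟩

theorem ev_of_mem (h : a⁻¹ * b ∈ M) : Ev M D a b := ⟨1, one_mem _, _, h, by group⟩

/-- For `n ∈ 𝐍(D)` the frame can be changed. -/
theorem Ev.shift (h : Ev M D a b) (hn : n ∈ 𝐍(D)) : Ev M D a (n * a) ↔ Ev M D b (n * b) :=
  ⟨fun k => h.symm.trans (k.trans (h.mul hn)), fun k => h.trans (k.trans (h.mul hn).symm)⟩

/-- The elements `n ∈ 𝐍(D)` with `Ev M D x (n x)`. -/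
def evN (M D : Subgroup G) (x : G) : Subgroup G where
  carrier := {n | n ∈ 𝐍(D) ∧ Ev M D x (n * x)}
  one_mem' := ⟨one_mem _, by rw [one_mul]; exact Ev.refl M D x⟩
  mul_mem' := fun {n l} hn hl => ⟨mul_mem hn.1 hl.1, hn.2.trans (by rw [mul_assoc]; exact hl.2.mul hn.1)⟩
  inv_mem' := fun {n} hn => ⟨inv_mem hn.1, by
    have := (hn.2.mul (inv_mem hn.1)).symm
    rwa [inv_mul_cancel_left] at this⟩

theorem mem_evN : n ∈ evN M D x ↔ n ∈ 𝐍(D) ∧ Ev M D x (n * x) := Iff.rfl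

theorem Cf.conj (h : Cf S M x W T) (c : G) : Cf S M (c * x) (c ⋆ W) (c ⋆ T) := by
  obtain ⟨n, hn, k⟩ := h.nle
  refine ⟨isPGroup_conj h.pg c, ?_, ?_, c * n * c⁻¹, mem_norm_conj hn c, fun e => k ?_⟩
  · rw [← conj_normalizer]; exact h.syl.conj c
  · rw [← conj_conj]; exact conj_mono c h.le
  · have := e.conj c⁻¹
    rwa [inv_conj_conj, inv_mul_cancel_left, show c⁻¹ * (c * n * c⁻¹ * (c * x)) = n * x by group] at this

variable [Finite G]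

theorem Cf.W_le (h : Cf S M x W T) : W ≤ T := syl_norm_le h.pg h.syl

namespace Lo

variable (h : Lo S M)
include h

theorem nS : 𝐍(S) ≤ M := (normalizer_le_normalizer_thompsonSubgroupOf S).trans h.nJ

theorem exists_le (hY : IsPGroup 2 Y) : ∃ c, Y ≤ c ⋆ S :=
  (SylIn.exists_le h.syl hY le_top).imp fun _ => And.right

theorem ev_of_eq (e : a ⋆ S = b ⋆ S) : Ev M D a b := ev_of_mem (h.nS (inv_mul_norm e.symm))

/-- `x ⋆ 𝛀 S` centralizes `T ≥ W`, so it lies in the Sylow subgroup `T` of `𝐍(W)`; `le_J_of_cent`. -/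
theorem Z_le (hT : SylIn 2 T 𝐍(W)) (hW : IsPGroup 2 W) (e : T ≤ x ⋆ S) : x ⋆ 𝛀 S ≤ 𝐉 T ⊓ 𝐂(T) := by
  have a : x ⋆ 𝛀 S ≤ 𝐂(T) := cent_symm (e.trans (conj_le_cent_oz x S))
  have b : x ⋆ 𝛀 S ≤ T := le_sup_right.trans (hT.eq_of_le
    (pgroup_sup hT.2.1 (pg_conj_oz h.syl.2.1 x) (norm_of_cent a))
    (sup_le hT.1 (norm_of_cent (a.trans (cent_anti (syl_norm_le hW hT))))) le_sup_left).ge
  exact le_inf (le_J_of_cent (el_conj_oz x S) b (cent_symm a)) a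

/-- Write `b = c a m`, `c₀ = a⁻¹ c a ∈ 𝐂(𝛀 S)`, `D₀ = a⁻¹ ⋆ D ≤ S`. `c₀⁻¹ ⋆ D₀ ≤ m ⋆ S` lies in `𝐂(𝛀 S) ⊓ M`, of which `S` is
a Sylow subgroup; take `n ∈ 𝐂(𝛀 S) ⊓ M` with `(n c₀⁻¹) ⋆ D₀ ≤ S` and apply `cz`. -/
theorem down (e : Ev M U a b) (h1 : a ⋆ 𝛀 S ≤ U) (h2 : D ≤ a ⋆ S) (h3 : D ≤ b ⋆ S) : Ev M D a b := by
  obtain ⟨c, hc, m, hm, rfl⟩ := e
  have sM : S ≤ M := (le_norm S).trans h.nS
  have c0 : a⁻¹ * c * a ∈ 𝐂(𝛀 S) := by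
    have := cent_anti h1 hc
    rwa [← conj_centralizer, mem_conj] at this
  have d0 : a⁻¹ ⋆ D ≤ S := le_conj_iff_inv_conj_le.1 h2
  have d1 : (a⁻¹ * c * a)⁻¹ ⋆ a⁻¹ ⋆ D ≤ 𝐂(𝛀 S) ⊓ M := by
    refine le_inf (conj_le_of_mem (d0.trans (le_centralizer_oz S)) (inv_mem c0)) ?_
    rw [conj_conj, show (a⁻¹ * c * a)⁻¹ * a⁻¹ = (c * a)⁻¹ by group, ← le_conj_iff_inv_conj_le]
    rw [← conj_conj] at h3
    exact h3.trans (conj_mono _ (conj_le_of_mem sM hm))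
  obtain ⟨n, hn, d2⟩ := SylIn.exists_le (SylIn.of_le h.syl (le_inf (le_centralizer_oz (p := 2) S) sM) le_top)
    (isPGroup_conj (h.syl.2.1.to_le d0) _) d1
  rw [le_conj_iff_inv_conj_le, conj_conj] at d2
  obtain ⟨l, hl, k⟩ := h.cz _ (mul_mem (inv_mem hn.1) (inv_mem c0)) _ d0 d2
  rw [← conj_centralizer, mem_conj] at k
  exact ⟨_, inv_mem k, l⁻¹ * n⁻¹ * m, mul_mem (mul_mem (inv_mem hl) (inv_mem hn.2)) hm, by group⟩

end Lo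

namespace Xt

variable (h : Xt S M J B)
include h

theorem exists_cf : ∃ W T, Cf S M 1 W T ∧ 𝐉 T = J ∧ 𝐁 T = B :=
  let ⟨W, T, a, b⟩ := h.ex; ⟨W, T, a, h.jj 1 W T a (h.JB.trans b), h.bb 1 W T a b⟩

theorem B_le : B ≤ S := let ⟨_, _, a, b⟩ := h.ex; b.trans (a.le.trans (conj_one S).le)

theorem pgB : IsPGroup 2 B := h.syl.2.1.to_le h.B_le

theorem pgJ : IsPGroup 2 J := h.pgB.to_le h.JB

theorem JJ : 𝐉 J = J := by
  obtain ⟨_, T, -, rfl, -⟩ := h.exists_cf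
  exact thompsonSubgroupOf_eq_of_le le_rfl (thompsonSubgroupOf_le T)

theorem JB' : 𝐉 B = J := by
  obtain ⟨_, T, -, rfl, rfl⟩ := h.exists_cf
  exact thompsonSubgroupOf_eq_of_le (thompson_le_baum T) inf_le_left

theorem nB : 𝐍(B) ≤ 𝐍(J) := h.JB' ▸ normalizer_le_normalizer_thompsonSubgroupOf B

theorem B_norm : B ≤ 𝐍(J) := (le_norm B).trans h.nB

theorem ev_one (h1 : U ≤ B) (h2 : B ≤ x ⋆ S) : Ev M U 1 x :=
  (h.g1 B 1 x h.JB (h.B_le.trans (conj_one S).ge) h2).anti h1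

theorem ev_one' (h1 : U ≤ J) (h2 : J ≤ x ⋆ S) : Ev M U 1 x :=
  (h.g1 J 1 x le_rfl ((h.JB.trans h.B_le).trans (conj_one S).ge) h2).anti h1

/-- Take a Sylow subgroup `T ≥ Y` of `𝐍(U)`, `T ≤ x ⋆ S`; `g1` for `D` gives `Ev M U 1 x`; `Ev.shift`. -/
theorem exists_ge (h1 : U ≤ D) (h2 : J ≤ D) (h3 : D ≤ S) (hY : IsPGroup 2 Y) (h4 : D ≤ Y) (h5 : Y ≤ 𝐍(U))
    (hn : n ∈ 𝐍(U)) (e : ¬ Ev M U 1 n) : ∃ x T, Y ≤ T ∧ Cf S M x U T := by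
  obtain ⟨T, h6, hT⟩ := exists_sylIn_ge hY h5
  obtain ⟨x, hx⟩ := h.toLo.exists_le hT.2.1
  have k := (h.g1 D 1 x h2 (h3.trans (conj_one S).ge) (h4.trans (h6.trans hx))).anti h1
  exact ⟨x, T, h6, h.syl.2.1.to_le (h1.trans h3), hT, hx, n, hn, fun e' => e (by simpa using (k.shift hn).2 e')⟩

/-- Suppose not; `exists_ge` gives `Cf S M x U T` with `𝐉 T = J`. The three factors of `tf` lie in `evN M U x`: for
`n ∈ 𝐍(U) ⊓ 𝐍(J)` use `g1` for `U ⊔ J`; for `n ∈ 𝐍(U) ⊓ 𝐂(𝛀 T) ≤ 𝐂(x ⋆ 𝛀 S)` use `down` with `ev_of_cent`.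
If `U = ⊥` then `n ∈ 𝐂(U)`. -/
theorem l2 (o : Op Y Λ) (h1 : U ≤ D) (h2 : J ≤ D) (h3 : D ≤ S) (h4 : D ≤ 𝐍(U)) (i : ∀ α ∈ Λ, im α U = U)
    (hn : n ∈ 𝐍(U)) : Ev M U 1 n := by
  by_contra e
  have h0 : U ≠ ⊥ := by
    rintro rfl
    exact e (by simpa using ev_of_cent (M := M) (cent_bot.ge (mem_top n)) 1)
  obtain ⟨x, T, h5, k⟩ := h.exists_ge h1 h2 h3 (h.syl.2.1.to_le h3) le_rfl h4 hn e
  have t := o.tf U T k.pg h0 i k.syl
  rw [h.jj x U T k (h2.trans h5)] at t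
  have mv : ∀ {E : Subgroup G} {l : G}, E ≤ T → l ∈ 𝐍(E) → E ≤ (l * x) ⋆ S := fun a b => by
    rw [← conj_conj, ← conj_eq_of_norm b]
    exact conj_mono _ (a.trans k.le)
  obtain ⟨l, hl, e'⟩ := k.nle
  refine e' (mem_evN.1 ((t.trans (sup_le (sup_le (fun y hy => ?_) fun y hy => ?_) fun y hy => ?_)) hl)).2
  · exact ⟨cent_le_norm _ hy, ev_of_cent hy x⟩
  · have a : U ⊔ J ≤ T := sup_le k.W_le (h2.trans h5)
    exact ⟨hy.1, (h.g1 _ x _ le_sup_right (a.trans k.le)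
      (mv a (norm_sup inf_le_left inf_le_right hy))).anti le_sup_left⟩
  · have z := h.toLo.Z_le k.syl k.pg k.le
    have z' : x ⋆ 𝛀 S ≤ 𝛀 T := le_oz (el_conj_oz x S) (z.trans (inf_le_left.trans (thompsonSubgroupOf_le T)))
      (z.trans inf_le_right)
    exact ⟨hy.1, h.toLo.down (ev_of_cent (cent_anti z' hy.2) x) le_rfl (k.W_le.trans k.le) (mv k.W_le hy.1)⟩

/-- As `FQ.Xt.i2` with `c = 1`: `Y = S ⊓ 𝐍(B) ≤ 𝐍(Q)` (inner automorphisms); `exists_ge` (`D = B`) and `bb` give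
`𝐁 Y = B`, `Y = S`. So the automorphisms of `op 1` leave `B = 𝐁 S` and `Q` invariant (`map_baum`), and `l2` applies. -/
theorem i2 (h1 : Q ≤ B) (i : ∀ α : MulAut G, im α B = B → im α Q = Q) (hn : n ∈ 𝐍(Q)) : Ev M Q 1 n := by
  by_contra e
  have h2 : 𝐍(B) ≤ 𝐍(Q) := fun y hy => norm_of_conj_eq (i (MulAut.conj y) (conj_eq_of_norm hy))
  have b : B ≤ S ⊓ 𝐍(B) := le_inf h.B_le (le_norm B)
  obtain ⟨x, T, h5, k⟩ := h.exists_ge h1 h.JB h.B_le (h.syl.2.1.to_le inf_le_left) b (inf_le_right.trans h2) hn e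
  have e1 := h.bb _ _ _ k (b.trans h5)
  have e2 := (baum_eq_of_between (e1.le.trans b) h5).trans e1
  have e3 : 𝐍(S ⊓ 𝐍(B)) ≤ 𝐍(B) := by
    have := normalizer_le_baum (e := 2) (S ⊓ 𝐍(B))
    rwa [e2] at this
  rw [eq_of_norm_le h.syl.2.1 inf_le_left (inf_le_inf_left _ e3)] at e2
  obtain ⟨Λ, o⟩ := h.op 1
  refine e (h.l2 o h1 h.JB h.B_le ((le_norm B).trans h2) (fun α hα => i α ?_) hn)
  have := o.inv α hα
  rw [conj_one] at this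
  rw [← e2, im, CS.map_baum α.injective]
  exact congrArg _ this

end Xt

end Cfsg.Lib.ND
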