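import Cfsg.Agent.Lib.ND.StepA

/-!
# The amalgam step: the local computation

Notation: `Q = 𝐎({2}, H)`, `B₁ = B ⊓ cm Q x`, `B₀ = B₁ ⊓ 𝐂(x ⋆ W)`, `V = ncl W H`, `D = ⁅Q, ⟨x⟩⁆`,
`V₀ = V ⊓ B ⊓ x⁻¹ ⋆ B`, `W₀ = W ⊓ x ⋆ W`, `U = ncl W ⟨x⟩`.
-/

set_option autoImplicit false
set_option linter.unusedSectionVars false

namespace Cfsg.Lib.ND

open Subgroup Cfsg.Lib.BG Cfsg.Lib.Transfer Cfsg.Lib.Loc Cfsg.Lib.PLocal Cfsg.Lib.FH Cfsg.Lib.FQ Cfsg.Lib.S4F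
open Cfsg.Lib.NF (refl Dh exists_dh)
open scoped commutatorElement

variable {X : Type*} [Group X] {A B H S W : Subgroup X} {a x : X}

/-- `B` is a member of `maxIn 2 S` with minimal nontrivial image in `H / Q`, and `x` moves `W`. -/
structure Sv (H A S W B : Subgroup X) (a x : X) : Prop extends Am H A S W, Dh 𝐎({2}, H) B a x where
  hB : B ∈ maxIn 2 S
  min : ∀ C ∈ maxIn 2 S, C ≤ 𝐎({2}, H) ⊔ (B ⊓ cm 𝐎({2}, H) x) → C ≤ 𝐎({2}, H)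
  xH : x ∈ H
  nx : x ∉ 𝐍(W)

variable [Finite X]

namespace Sv

variable (h : Sv H A S W B a x)
include h

local notation "Q" => 𝐎({2}, H)
local notation "B₁" => B ⊓ cm 𝐎({2}, H) x
local notation "B₀" => B ⊓ cm 𝐎({2}, H) x ⊓ 𝐂(x ⋆ W)
local notation "V" => ncl W H
local notation "D" => ⁅𝐎({2}, H), zpowers x⁆
local notation "V₀" => ncl W H ⊓ B ⊓ x⁻¹ ⋆ B
local notation "W₀" => W ⊓ x ⋆ W

omit h [Finite X] in
theorem sv_comm_le_cent {P K Z : Subgroup X} (hP : P ≤ 𝐍(Z)) (hK : K ≤ 𝐂(Z)) : ⁅P, K⁆ ≤ 𝐂(Z) :=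
  (commutator_mono le_rfl hK).trans (comm_le_right (norm_cent hP))

omit h [Finite X] in
theorem sv_sq {w d : X} (h1 : ⁅w, d⁆ ∈ 𝐂[d]) (h2 : ⁅w, d⁆ ^ 2 = 1) : w ∈ 𝐂[d ^ 2] := by
  have e := mem_cent1.1 h1
  have e2 : ⁅w, d⁆ * ⁅w, d⁆ = 1 := by rw [← sq, h2]
  have e3 : w * d = ⁅w, d⁆ * d * w := by simp only [commutatorElement_def]; group
  rw [mem_cent1, sq]
  calc w * (d * d) = ⁅w, d⁆ * d * (w * d) := by simp only [commutatorElement_def]; group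
    _ = ⁅w, d⁆ * (d * ⁅w, d⁆) * d * w := by rw [congrArg (⁅w, d⁆ * d * ·) e3]; simp only [mul_assoc]
    _ = d * d * w := by rw [← e, ← mul_assoc, e2, one_mul]

omit h in
theorem sv_half {Z K Y : Subgroup X} (h4 : Z.relIndex Y = 4) (hZ : Z ≤ Y) (hK : Z ≤ K) :
    Y ⊓ K ≤ Z ∨ K.relIndex Y ≤ 2 := by
  by_cases e : Y ⊓ K ≤ Z
  · exact Or.inl e
  · right
    have h1 := relIndex_mul_relIndex Z (Y ⊓ K) Y (le_inf hZ hK) inf_le_left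
    have h2 : Z.relIndex (Y ⊓ K) ≠ 1 := fun h' => e (relIndex_eq_one.1 h')
    rw [h4, inf_relIndex_left] at h1
    have h3 : Z.relIndex (Y ⊓ K) ≠ 0 := fun h' => by rw [h'] at h1; omega
    have : 2 ≤ Z.relIndex (Y ⊓ K) := by omega
    nlinarith

omit h in
theorem sv_ne0 (K Y : Subgroup X) : K.relIndex Y ≠ 0 := Subgroup.index_ne_zero_of_finite

omit h [Finite X] in
theorem sv_comm_zp {P Z : Subgroup X} (hP : P ≤ cm Z x) (hx : x ∈ 𝐍(Z)) : ⁅P, zpowers x⁆ ≤ Z :=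
  commutator_le.2 fun p hp y hy => by
    have := (zpowers_le.2 (cm_symm (hP hp) hx) hy).2
    rw [← commutatorElement_inv]
    exact inv_mem this

theorem cop {P : Subgroup X} (hP : IsPGroup 2 P) : (Nat.card (zpowers x)).Coprime (Nat.card P) := by
  obtain ⟨k, hk⟩ := IsPGroup.iff_card.1 hP
  rw [hk, Nat.card_zpowers]
  exact (Nat.coprime_two_right.2 h.odd).pow_right k

theorem WQ : W ≤ Q := h.toAm.le_core

theorem QS : Q ≤ S := h.syl.pcore_le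

theorem HQ : H ≤ 𝐍(Q) := (pcore_nml _ H).norm

theorem pS : IsPGroup 2 S := h.syl.pi.pgroup

theorem cjQ {g : X} (hg : g ∈ H) : g ⋆ W ≤ Q := conj_le_of_norm h.WQ (h.HQ hg)

theorem VQ : V ≤ Q := ncl_le h.WQ h.HQ

theorem WB : W ≤ B := h.mx B h.hB

theorem Yel : IsElementaryAbelian 2 (x ⋆ W) := (elab_conj x).2 h.el

theorem YV : x ⋆ W ≤ V := conj_le_ncl W h.xH

theorem xV : x ∈ 𝐍(V) := norm_ncl W H h.xH

theorem nxc : x ∉ 𝐂(W) := fun e => h.nx (cent_le_norm W e)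

theorem idx0 : (B₀).relIndex (x ⋆ W) = B.relIndex (x ⋆ W) := by
  rw [← inf_relIndex_right (B₀), ← inf_relIndex_right B]
  congr 1
  refine le_antisymm (inf_le_inf_right _ (inf_le_left.trans inf_le_left)) ?_
  exact le_inf (le_inf (le_inf inf_le_left (inf_le_right.trans ((h.cjQ h.xH).trans (le_cm h.xQ))))
    (inf_le_right.trans (abelian_cent h.Yel.1))) inf_le_right

theorem idx1 : (B₀).relIndex (B₀ ⊔ x ⋆ W) = B.relIndex (x ⋆ W) := by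
  rw [Coprime.relIndex_sup_of_le_normalizer (norm_of_cent (cent_symm inf_le_right)), h.idx0]

theorem card_C : Nat.card ↥(B₀ ⊔ x ⋆ W) = Nat.card ↥(B₀) * B.relIndex (x ⋆ W) := by
  rw [← h.idx1, BG.card_mul_relIndex le_sup_left]

theorem card_B : Nat.card B = Nat.card ↥(B₀) * (2 * 𝐂(x ⋆ W).relIndex (B₁)) := by
  have e1 := Coprime.card_inf_mul_relIndex (cm Q x) B
  have e2 := Coprime.card_inf_mul_relIndex 𝐂(x ⋆ W) (B₁)
  rw [h.idx, inf_comm] at e1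
  rw [inf_comm] at e2
  rw [← e1, ← e2]; ring

theorem Cel : IsElementaryAbelian 2 (B₀ ⊔ x ⋆ W) :=
  elab_sup (elab_of_le h.hB.2.1 (inf_le_left.trans inf_le_left)) h.Yel inf_le_right

theorem CS : B₀ ⊔ x ⋆ W ≤ S :=
  sup_le ((inf_le_left.trans inf_le_left).trans h.hB.1) ((h.cjQ h.xH).trans h.QS)

/-- `a` and `x⁻¹ a x` centralize it (`Dh.mem` for `x⁻¹`). -/
theorem inf_cent : B ⊓ x⁻¹ ⋆ B ≤ 𝐂[x] := by
  intro c hc
  have a1 : a ∈ 𝐂[c] := cent_le_cent1 hc.1 (abelian_cent h.hB.2.1.1 h.aB)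
  have a2 : x⁻¹ * a * x ∈ 𝐂[c] := by
    refine cent_le_cent1 hc.2 (abelian_cent ((abelian_conj x⁻¹).2 h.hB.2.1.1) ?_)
    rw [mem_conj]; simpa [mul_assoc] using h.aB
  refine mem_cent1_symm (h.toDh.mem (h.hB.2.1.2 a h.aB) a1 ?_)
  have e : a * x⁻¹ * a⁻¹ = x := inv_injective (Eq.trans (by group) h.inv)
  have : x * a * x⁻¹ = a * (x⁻¹ * a * x)⁻¹ * a := by
    calc x * a * x⁻¹ = x * (a * x⁻¹ * a⁻¹) * a := by group
      _ = (a * x⁻¹ * a⁻¹) * x * a := by rw [e]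
      _ = _ := by group
  rw [this]
  exact mul_mem (mul_mem a1 (inv_mem a2)) a1

/-- `x ⋆ W ≤ Q` by `le_core`, `B ⊓ Q ≤ B₁`; `B₀ ⊔ x ⋆ W ≤ S` is elementary abelian, so of order at most
`|B| = 2 |B₁|`, and `B₀ ⊓ x ⋆ W = B ⊓ x ⋆ W`. -/
theorem idx_le : B.relIndex (x ⋆ W) ≤ 2 * 𝐂(x ⋆ W).relIndex (B₁) := by
  have := h.hB.2.2 _ h.CS h.Cel
  rw [h.card_C, h.card_B] at this
  exact Nat.le_of_mul_le_mul_left this Nat.card_pos

/-- `x` normalizes `Q ⊔ B₁`, so `B₁ ≤ x ⋆ S`, and `q2.conj x` applies to `B₁` (`B ⊓ x ⋆ W ≤ 𝐂(B₁)`). If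
`B₁ ≤ 𝐂(x ⋆ W)` the index is at most 2, and it is not 1, since then `W ≤ B ⊓ x⁻¹ ⋆ B ≤ 𝐂[x]`. -/
theorem idx_eq : B.relIndex (x ⋆ W) = 2 * 𝐂(x ⋆ W).relIndex (B₁) ∧ 𝐂(x ⋆ W).relIndex (B₁) ≤ 2 := by
  have l := h.idx_le
  have b1 : B₁ ≤ x ⋆ S := fun b hb => by
    rw [mem_conj]
    have := conj_mem_of_norm' h.xQ hb.2.2
    have e : x⁻¹ * b * x = x⁻¹ * ⁅b, x⁆ * x * b := by simp only [commutatorElement_def]; group
    rw [e]
    exact mul_mem (h.QS this) (h.hB.1 hb.1)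
  have l2 : 𝐂(B₁).relIndex (x ⋆ W) ≤ B.relIndex (x ⋆ W) :=
    relIndex_le_of_le_left (abelian_cent' h.hB.2.1.1 le_rfl inf_le_left) (sv_ne0 _ _)
  rcases h.q2.conj x (B₁) b1 (fun d hd => by rw [h.hB.2.1.2 d hd.1]; exact one_mem _) (l2.trans l) with c | c
  · have r := relIndex_eq_one.2 c
    have n0 := sv_ne0 B (x ⋆ W)
    have n1 : B.relIndex (x ⋆ W) ≠ 1 := fun e => h.nxc (le_cent1_iff.1
      ((le_inf h.WB (conj_le_iff_le_inv_conj.1 (relIndex_eq_one.1 e))).trans h.inf_cent))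
    omega
  · omega

/-- `C = B₀ ⊔ x ⋆ W ∈ maxIn 2 S` by `idx_eq`, so `C ≤ Q` by `min`; for `g ∈ H`, `g⁻¹ ⋆ C ≤ Q` is in `maxIn 2 S` and
contains `W`. -/
theorem V_le : V ≤ B₀ ⊔ x ⋆ W ∧ IsElementaryAbelian 2 (V) ∧ V ≤ Q := by
  have c : Nat.card ↥(B₀ ⊔ x ⋆ W) = Nat.card B := by rw [h.card_C, h.card_B, h.idx_eq.1]
  have m : B₀ ⊔ x ⋆ W ∈ maxIn 2 S := ⟨h.CS, h.Cel, fun E h1 h2 => c ▸ h.hB.2.2 E h1 h2⟩
  have q : B₀ ⊔ x ⋆ W ≤ Q := h.min _ m (sup_le (inf_le_left.trans le_sup_right) ((h.cjQ h.xH).trans le_sup_left))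
  have v : V ≤ B₀ ⊔ x ⋆ W := ncl_le_iff.2 fun g hg => conj_le_iff_le_inv_conj.2 (h.mx _
    ⟨(conj_le_of_norm q (h.HQ (inv_mem hg))).trans h.QS, (elab_conj _).2 h.Cel, fun E h1 h2 => by
      rw [card_conj]; exact m.2.2 E h1 h2⟩)
  exact ⟨v, elab_of_le h.Cel v, h.VQ⟩

theorem Vel : IsElementaryAbelian 2 (V) := h.V_le.2.1

theorem dec {v : X} (hv : v ∈ V) : ∃ b ∈ B, ∃ y ∈ x ⋆ W, b * y = v := by
  obtain ⟨b, hb, y, hy, e⟩ := (mem_sup_left_norm (norm_of_cent (cent_symm inf_le_right))).1 (h.V_le.1 hv)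
  exact ⟨b, hb.1.1, y, hy, e⟩

theorem dec2 {v : X} (hv : v ∈ V) : ∃ c ∈ V₀, ∃ w ∈ W, ∃ y ∈ x ⋆ W, c * w * y = v := by
  obtain ⟨b, hb, y, hy, e⟩ := h.dec hv
  have bV : b ∈ V := by
    rw [eq_mul_inv_of_mul_eq e]; exact mul_mem hv (inv_mem (h.YV hy))
  obtain ⟨b', hb', y', hy', e'⟩ := h.dec (conj_mem_of_norm h.xV bV)
  have w := mem_conj.1 hy'
  have e2 : x⁻¹ * b' * x = b * (x⁻¹ * y' * x)⁻¹ := by
    rw [eq_mul_inv_of_mul_eq e']; group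
  refine ⟨x⁻¹ * b' * x, ⟨⟨?_, ?_⟩, ?_⟩, _, w, y, hy, ?_⟩
  · show _ ∈ V
    rw [e2]; exact mul_mem bV (inv_mem (le_ncl W H w))
  · show _ ∈ B
    rw [e2]; exact mul_mem hb (inv_mem (h.WB w))
  · show _ ∈ x⁻¹ ⋆ B
    rw [mem_conj]; simpa [mul_assoc] using hb'
  · rw [e2, ← e]; group

theorem V0x : V₀ ≤ 𝐂[x] := (le_inf (inf_le_left.trans inf_le_right) inf_le_right).trans h.inf_cent

theorem aV : A ≤ 𝐍(V) := norm_ncl_of_norm h.aW h.fp.norm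

theorem nV : Nml (V) H := ncl_nml (h.le.trans h.syl.le)

theorem nxV : x ∉ 𝐂(V) := fun e => h.nxc (cent_anti (le_ncl W H) e)

/-- Modular law: `V ≤ x ⋆ W ⊔ V ⊓ B`; conjugate by `x⁻¹` and use `W ≤ V ⊓ B`. -/
theorem V_le' : V ≤ W ⊔ x ⋆ W ⊔ V₀ := by
  intro v hv
  obtain ⟨c, hc, w, hw, y, hy, rfl⟩ := h.dec2 hv
  exact mul_mem (mul_mem (mem_sup_right hc) (mem_sup_left (mem_sup_left hw))) (mem_sup_left (mem_sup_right hy))

/-- `|⁅V, ⟨x⟩⁆| = |V : C_V(x)| ≤ |V : V₀| ≤ |V : V ⊓ B|² ≤ |x ⋆ W : x ⋆ W ⊓ B|²`. -/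
theorem card_le : Nat.card ↥⁅V, zpowers x⁆ ≤ B.relIndex (x ⋆ W) ^ 2 := by
  have l1 : B.relIndex (V) ≤ B.relIndex (x ⋆ W) :=
    (relIndex_le_of_le_right h.V_le.1 (sv_ne0 _ _)).trans
      ((relIndex_le_of_le_left (inf_le_left.trans inf_le_left) (sv_ne0 _ _)).trans h.idx1.le)
  have l2 : (x⁻¹ ⋆ B).relIndex (V) = B.relIndex (V) := by
    conv_lhs => rw [← conj_eq_of_norm (inv_mem h.xV)]
    exact relIndex_conj _ _ _
  rw [card_commutator_zpowers h.Vel.1 h.xV, cent_zpowers, sq]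
  refine (relIndex_le_of_le_left h.inf_cent (sv_ne0 _ _)).trans (relIndex_inf_le.trans ?_)
  rw [l2]
  exact Nat.mul_le_mul l1 l1

/-- Otherwise `core1` gives `x ∈ 𝐂(V) ≤ 𝐂(W)`. -/
theorem idx4 : B.relIndex (x ⋆ W) = 4 ∧ 𝐂(x ⋆ W).relIndex (B₁) = 2 := by
  obtain ⟨e, l⟩ := h.idx_eq
  have n0 := sv_ne0 𝐂(x ⋆ W) (B₁)
  have c := h.card_le
  by_contra hn
  have : B.relIndex (x ⋆ W) = 2 := by omega
  rw [this] at c
  exact h.nxV (core1 h.fp h.Vel h.nV h.aV h.xH h.odd c)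

/-- `W ⊓ x⁻¹ ⋆ B ≤ W₀ ≤ x ⋆ W ⊓ B` (the first is centralized by `x`), and both ends have order `|W| / 4`. -/
theorem W0 : (W₀).relIndex W = 4 ∧ W₀ ≤ 𝐂[x] := by
  have k : ∀ w ∈ W₀, x⁻¹ * w * x = w ∧ w ∈ 𝐂[x] := fun w hw => by
    have c : x⁻¹ * w * x ∈ 𝐂[x] := h.inf_cent ⟨h.WB (mem_conj.1 hw.2), by
      show _ ∈ x⁻¹ ⋆ B
      rw [mem_conj]; simpa [mul_assoc] using h.WB hw.1⟩
    have e := mem_cent1.1 c
    have e2 : w * x = x * w := by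
      calc w * x = x * (x⁻¹ * w * x * x) * x⁻¹ := by group
        _ = x * w := by rw [e]; group
    exact ⟨by rw [mul_assoc, e2]; group, mem_cent1.2 e2⟩
  refine ⟨?_, fun w hw => (k w hw).2⟩
  have e : W₀ = W ⊓ x⁻¹ ⋆ B := by
    refine le_antisymm (le_inf inf_le_left fun w hw => ?_) (le_inf inf_le_left fun w hw => ?_)
    · rw [mem_conj, inv_inv, ← mem_cent1.1 (k w hw).2]; simpa using h.WB hw.1
    · have := mem_cent1.1 (h.inf_cent ⟨h.WB hw.1, hw.2⟩)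
      rw [mem_conj, mul_assoc, this]; simpa using hw.1
  rw [e, inf_relIndex_left, ← relIndex_conj x, conj_inv_conj, h.idx4.1]

theorem W0x : zpowers x ≤ 𝐂(W₀) := zpowers_le.2 (le_cent1_iff.1 h.W0.2)

theorem QW : Q ≤ 𝐍(W) := h.QS.trans h.sW

theorem QW0 : Q ≤ 𝐍(W₀) := by
  refine norm_inf h.QW ?_
  rw [← conj_normalizer]
  conv_lhs => rw [← conj_eq_of_norm h.xQ]
  exact conj_mono x h.QW

theorem DQ : D ≤ Q := comm_le_left (zpowers_le.2 h.xQ)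

theorem DD : ⁅D, zpowers x⁆ = D := coprime_commGid (zpowers_le.2 h.xQ) (h.cop (pcore_pgroup 2 H))

theorem xD : zpowers x ≤ 𝐍(D) := right_norm_comm _ _

theorem q2' {d : X} (hd : d ∈ S) (h2 : d ^ 2 ∈ 𝐂(W)) (hi : 𝐂[d].relIndex W ≤ 2) : d ∈ 𝐂(W) := by
  have n0 := sv_ne0 𝐂(W) (zpowers d)
  rcases h.q2 (zpowers d) (zpowers_le.2 hd) (by
    rintro _ ⟨k, rfl⟩
    show (d ^ k) ^ 2 ∈ _
    rw [← zpow_natCast, ← zpow_mul, mul_comm, zpow_mul, zpow_natCast]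
    exact zpow_mem h2 k) (by rw [cent_zpowers]; omega) with c | c
  · exact c (mem_zpowers d)
  · rw [cent_zpowers] at c; omega

theorem comm_mem {d w : X} (hd : d ∈ S) (hw : w ∈ W) : ⁅w, d⁆ ∈ W := by
  rw [commutatorElement_def, mul_assoc w, mul_assoc w]
  exact mul_mem hw (conj_mem_of_norm (h.sW hd) (inv_mem hw))

/-- There are no transvections. -/
theorem tv {d : X} (hd : d ∈ S) (hi : 𝐂[d].relIndex W ≤ 2) : d ∈ 𝐂(W) := by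
  refine h.q2' hd (le_cent1_iff.1 fun w hw => sv_sq ?_ (h.el.2 _ (h.comm_mem hd hw))) hi
  have n0 := sv_ne0 𝐂[d] W
  by_cases c : w ∈ 𝐂[d]
  · rw [commutatorElement_eq_one_iff_mul_comm.2 (mem_cent1.1 c)]; exact one_mem _
  have n1 : 𝐂[d].relIndex W ≠ 1 := fun e => c (relIndex_eq_one.1 e hw)
  have i2 : (𝐂[d].subgroupOf W).index = 2 := by unfold relIndex at *; omega
  have w' : d * w⁻¹ * d⁻¹ ∈ W := conj_mem_of_norm (h.sW hd) (inv_mem hw)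
  have := (mul_mem_iff_of_index_two i2 (a := ⟨w, hw⟩) (b := ⟨_, w'⟩)).2 (by
    simp only [mem_subgroupOf, c, false_iff]
    intro e
    refine c (inv_mem_iff.1 ?_)
    have := conj_mem_of_norm' (le_norm _ (self_mem_cent1 d)) e
    simpa [mul_assoc] using this)
  simpa [mem_subgroupOf, commutatorElement_def, mul_assoc] using this

theorem D_W0 : D ≤ 𝐂(W₀) := sv_comm_le_cent h.QW0 h.W0x

theorem D_sq {d : X} (hd : d ∈ D) : d ^ 2 ∈ 𝐂(W) := by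
  have dS := h.QS (h.DQ hd)
  have n : W ≤ 𝐍(W₀) := abelian_norm h.el.1 inf_le_left
  have d0 := h.QW0 (h.DQ hd)
  rcases sv_half h.W0.1 inf_le_left (le_cm d0) with c | c
  · have := rel_modEq n (h.sW dS) d0 (pgroup_of_le h.pS (zpowers_le.2 dS)) c
    rw [h.W0.1] at this
    exact absurd this (by decide)
  · refine h.tv (pow_mem dS 2) (le_trans ?_ c)
    rw [← inf_relIndex_left W (cm _ d)]
    refine relIndex_le_of_le_left (fun w hw => sv_sq ?_ (h.el.2 _ hw.2.2.1)) (sv_ne0 _ _)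
    exact cent_le_cent1 hd (cent_symm h.D_W0 hw.2.2)

/-- `Q` normalizes `W₀` and `x` centralizes it, so `D ≤ 𝐂(W₀)`. For `d ∈ D` the preimage `W'` of `C_{W / W₀}(d)` has
index at most 2 in `W` and is centralized by `d²`; then `d⁴ ∈ 𝐂(W)` and `q2` for `⟨d²⟩` gives `d² ∈ 𝐂(W)`. Now `q2` for
`D` gives the index, and if `D` does not centralize `W` then for `d ∈ D ∖ 𝐂(W)`, `q2` for `⟨d⟩` gives
`C_W(d) = W₀`, which contains `⁅w, d⁆` since `d² ∈ 𝐂(W)`. -/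
theorem D_W : 𝐂(W).relIndex (D) ≤ 2 ∧ ⁅W, D⁆ ≤ W₀ ∧ D ≤ 𝐂(W₀) := by
  refine ⟨?_, commutator_le.2 fun w hw d hd => ?_, h.D_W0⟩
  · by_contra c
    have l : 𝐂(D).relIndex W ≤ 4 := h.W0.1 ▸ relIndex_le_of_le_left (cent_symm h.D_W0) (sv_ne0 _ _)
    rcases h.q2 (D) (h.DQ.trans h.QS) (fun d hd => h.D_sq hd) (by omega) with e | e
    · rw [relIndex_eq_one.2 e] at c; omega
    · omega
  · have dS := h.QS (h.DQ hd)
    rcases sv_half h.W0.1 inf_le_left ((cent_symm h.D_W0).trans (cent_le_cent1 hd)) with c | c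
    · refine c ⟨h.comm_mem dS hw, mem_cent1.2 ?_⟩
      have e1 := mem_cent.1 (h.D_sq hd) w hw
      have w' := conj_mem_of_norm (h.sW dS) hw
      have e2 := mem_cent.1 (abelian_cent h.el.1 w') w hw
      have e3 : w⁻¹ = w := inv_eq_of_mul_eq_one_left (by rw [← sq, h.el.2 w hw])
      rw [commutatorElement_def, e3]
      calc w * d * w * d⁻¹ * d = w * (d * w * d⁻¹) * d := by group
        _ = d * w * d⁻¹ * (w * d ^ 2) * d⁻¹ := by rw [e2]; group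
        _ = d * (w * d * w * d⁻¹) := by rw [e1]; group
    · rw [commutatorElement_eq_one_iff_mul_comm.2 (mem_cent.1 (h.tv dS c) w hw)]
      exact one_mem _

theorem UV : ncl W (zpowers x) ≤ V := ncl_mono le_rfl (zpowers_le.2 h.xH)

theorem YU : x ⋆ W ≤ ncl W (zpowers x) := conj_le_ncl W (mem_zpowers x)

/-- `D` centralizes what it normalizes and `x` centralizes. -/
theorem D_c {Z : Subgroup X} (h1 : D ≤ 𝐍(Z)) (h2 : Z ≤ 𝐂[x]) : D ≤ 𝐂(Z) :=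
  h.DD.ge.trans (sv_comm_le_cent h1 (zpowers_le.2 (le_cent1_iff.1 h2)))

/-- Conjugating `D_W` by powers of `x` gives `⁅U, D⁆ ≤ W₀`. For `v ∈ U ⊓ 𝐂[x]` the group `⟨v⟩ ⊔ W₀` is normalized by
`D` and centralized by `x`, hence centralized by `⁅D, ⟨x⟩⁆ = D`. -/
theorem D_U : D ≤ 𝐂(ncl W (zpowers x) ⊓ 𝐂[x]) := by
  have c : ⁅ncl W (zpowers x), D⁆ ≤ W₀ :=
    comm_ncl_le h.xD (norm_of_cent h.W0x) (abelian_norm h.el.1 inf_le_left) h.D_W.2.1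
  exact h.D_c (norm_of_comm_le ((commutator_mono inf_le_left le_rfl).trans
    (c.trans (le_inf (inf_le_left.trans (le_ncl _ _)) h.W0.2)))) inf_le_right

/-- `U ≤ W ⊔ x ⋆ W ⊔ U ⊓ V₀` by `V_le'`, so `D ⊓ 𝐂(W) ⊓ 𝐂(x ⋆ W)` centralizes `U` by `D_U`; and
`⁅V, ⟨x⟩⁆ ≤ U` by `V_le'`. -/
theorem D_idx : 𝐂(⁅V, zpowers x⁆).relIndex (D) ≤ 4 := by
  have l2 : 𝐂(x ⋆ W).relIndex (D) = 𝐂(W).relIndex (D) := by
    conv_lhs => rw [← conj_eq_of_norm (h.xD (mem_zpowers x)), ← conj_centralizer]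
    exact relIndex_conj _ _ _
  have c1 : ⁅V, zpowers x⁆ ≤ ncl W (zpowers x) := by
    have : V ≤ ncl W (zpowers x) ⊔ V₀ := h.V_le'.trans (sup_le_sup_right (sup_le (le_ncl _ _) h.YU) _)
    refine (commutator_mono this le_rfl).trans (comm_sup_le (le_norm _)
      ((inf_le_left.trans inf_le_left).trans (abelian_norm h.Vel.1 h.UV)) (comm_le_left (norm_ncl _ _)) ?_)
    rw [comm_eq_bot_iff.2 (h.V0x.trans (cent_zpowers x).ge)]
    exact bot_le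
  have c2 : D ⊓ (𝐂(W) ⊓ 𝐂(x ⋆ W)) ≤ 𝐂(ncl W (zpowers x)) := cent_symm fun u hu => by
    obtain ⟨c, hc, w, hw, y, hy, e⟩ := h.dec2 (h.UV hu)
    have cU : c ∈ ncl W (zpowers x) := by
      rw [show c = u * y⁻¹ * w⁻¹ by rw [← e]; group]
      exact mul_mem (mul_mem hu (inv_mem (h.YU hy))) (inv_mem (le_ncl _ _ hw))
    rw [← e]
    exact mul_mem (mul_mem (cent_symm (inf_le_left.trans h.D_U) ⟨cU, h.V0x hc⟩)
      (cent_symm (inf_le_right.trans inf_le_left) hw)) (cent_symm (inf_le_right.trans inf_le_right) hy)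
  refine (relIndex_le_of_le_left (c2.trans (cent_anti c1)) (sv_ne0 _ _)).trans ?_
  rw [inf_relIndex_left]
  refine relIndex_inf_le.trans ?_
  rw [l2]
  exact Nat.mul_le_mul h.D_W.1 h.D_W.1

/-- Take `t ∈ B₁ ∖ 𝐂(x ⋆ W)`; `t ∈ 𝐂(W)`, `x⁻¹ t x ∉ 𝐂(W)`, and `t⁻¹ x⁻¹ t x ∈ ⁅Q ⊔ B₁, ⟨x⟩⁆ = D` by coprime action.
So `D` does not centralize `W ≤ U = ⁅U, ⟨x⟩⁆ ⊔ U ⊓ 𝐂[x]`; use `D_U`. -/
theorem D_nc : ¬ D ≤ 𝐂(⁅V, zpowers x⁆) := by
  intro c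
  have e := coprime_cent_prod (norm_ncl W (zpowers x)) (h.cop (pgroup_of_le (elab_pgroup h.Vel) h.UV))
    (Or.inl (abelian_sol inferInstance))
  have cU : D ≤ 𝐂(ncl W (zpowers x)) := by
    rw [← e, cent_zpowers]
    exact le_cent_sup (c.trans (cent_anti (commutator_mono h.UV le_rfl))) h.D_U
  have cW := cU.trans (cent_anti (le_ncl W (zpowers x)))
  have p : ⁅Q ⊔ B₁, zpowers x⁆ ≤ Q := sv_comm_zp (sup_le (le_cm h.xQ) inf_le_right) h.xQ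
  have p2 : ⁅Q ⊔ B₁, zpowers x⁆ ≤ D := by
    rw [← coprime_commGid (norm_of_comm_le (p.trans le_sup_left))
      (h.cop (pgroup_of_le h.pS (sup_le h.QS (inf_le_left.trans h.hB.1))))]
    exact commutator_mono p le_rfl
  have : B₁ ≤ 𝐂(x ⋆ W) := fun t ht => by
    have t1 : t ∈ 𝐂(W) := abelian_cent' h.hB.2.1.1 le_rfl h.WB ht.1
    have t2 := cW (p2 (comm_mem_comm (mem_sup_right (inv_mem ht)) (inv_mem (mem_zpowers x))))
    rw [← conj_centralizer, mem_conj]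
    have := mul_mem t1 t2
    simpa [mul_assoc] using this
  have := relIndex_eq_one.2 this
  rw [h.idx4.2] at this
  omega

/-- Let `V₁ ≤ V` be minimal among the subgroups normalized by `H ⊔ A` and not centralized by `x`, `O = ncl ⟨x⟩ (H ⊔ A)`,
`C₁ = V₁ ⊓ 𝐂(O)`; proper invariant subgroups of `V₁` lie in `C₁`, in particular `⁅V₁, Q⁆`. By `core1`,
`|⁅V₁, ⟨x⟩⁆| > 4`; with `card_le`, `core` for `V / V₁` gives `⁅V, ⟨x⟩⁆ ≤ V₁`. Put `Q₂ = Q ⊓ 𝐂(C₁) ≥ D` and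
`Y = Q₂ ⊓ 𝐂(V₁)`; squares of `Q₂` are in `Y`. `D` centralizes `V₁ ⊓ 𝐂[x]` (for `v` in it `⟨v⟩ ⊔ C₁` is normalized by `Q`
and centralized by `x`), so `D ⊓ 𝐂(⁅V, ⟨x⟩⁆) ≤ Y`; `D_idx` and `core` for `Q₂ / Y` give `D = ⁅D, ⟨x⟩⁆ ≤ Y`, against
`D_nc`. -/
theorem false : False := by
  have xG : zpowers x ≤ H ⊔ A := zpowers_le.2 (mem_sup_left h.xH)
  obtain ⟨V₁, ⟨v1, g1, n1⟩, mn⟩ := exists_minimal_of_wellFoundedLT
    (fun Z : Subgroup X => Z ≤ V ∧ H ⊔ A ≤ 𝐍(Z) ∧ x ∉ 𝐂(Z)) ⟨V, le_rfl, sup_le h.nV.norm h.aV, h.nxV⟩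
  set C₁ := V₁ ⊓ 𝐂(ncl (zpowers x) (H ⊔ A)) with hC
  have gC : H ⊔ A ≤ 𝐍(C₁) := norm_inf g1 (norm_cent (norm_ncl _ _))
  have xC : zpowers x ≤ 𝐂(C₁) := cent_symm (inf_le_right.trans (cent_anti (le_ncl _ _)))
  have gQ : H ⊔ A ≤ 𝐍(Q) := sup_le h.HQ (norm_pcore h.fp.norm _)
  have QG : Q ≤ H ⊔ A := (pcore_le _ _).trans le_sup_left
  have el := elab_of_le h.Vel v1
  have b : V₁ ≠ ⊥ := fun e => n1 (by rw [e]; exact mem_cent.2 fun y hy => by rw [mem_bot.1 hy]; simp)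
  have lt := PGroup.commutator_lt (elab_pgroup el) (pcore_pgroup 2 H) (QG.trans g1) b
  have c1 : ⁅V₁, Q⁆ ≤ C₁ := by
    refine le_inf lt.le (cent_symm (ncl_le (zpowers_le.2 ?_) (norm_cent (norm_comm g1 gQ))))
    by_contra e
    exact lt.not_ge (mn ⟨lt.le.trans v1, norm_comm g1 gQ, e⟩ lt.le)
  have nV1 : Nml V₁ H := ⟨v1.trans h.nV.le, le_sup_left.trans g1⟩
  have big : 4 < Nat.card ↥⁅V₁, zpowers x⁆ := lt_of_not_ge fun e =>
    n1 (core1 h.fp el nV1 (le_sup_right.trans g1) h.xH h.odd e)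
  have c2 : ⁅V, zpowers x⁆ ≤ V₁ := by
    refine core h.fp h.nV nV1 v1 h.aV (le_sup_right.trans g1)
      (fun v hv => by rw [h.Vel.2 v hv]; exact one_mem _) h.xH h.odd ?_
    have e1 := Coprime.card_inf_mul_relIndex V₁ ⁅V, zpowers x⁆
    have e2 := h.card_le
    have e3 : Nat.card ↥⁅V₁, zpowers x⁆ ≤ Nat.card ↥(V₁ ⊓ ⁅V, zpowers x⁆) :=
      card_le_of_le (le_inf (comm_le_left (xG.trans g1)) (commutator_mono v1 le_rfl))
    rw [h.idx4.1] at e2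
    nlinarith
  have d2 : D ≤ Q ⊓ 𝐂(C₁) := le_inf h.DQ (sv_comm_le_cent (QG.trans gC) xC)
  have g2 : H ⊔ A ≤ 𝐍(Q ⊓ 𝐂(C₁)) := norm_inf gQ (norm_cent gC)
  have g3 : H ⊔ A ≤ 𝐍(Q ⊓ 𝐂(C₁) ⊓ 𝐂(V₁)) := norm_inf g2 (norm_cent g1)
  have d3 : D ≤ 𝐂(V₁ ⊓ 𝐂[x]) := h.D_c (h.DQ.trans (norm_of_comm_le ((commutator_mono inf_le_left le_rfl).trans
    (c1.trans (le_inf inf_le_left ((cent_symm xC).trans (cent_zpowers x).le)))))) inf_le_right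
  have d4 : D ⊓ 𝐂(⁅V, zpowers x⁆) ≤ Q ⊓ 𝐂(C₁) ⊓ 𝐂(V₁) := by
    refine le_inf (inf_le_left.trans d2) ?_
    rw [← coprime_cent_prod (xG.trans g1) (h.cop (elab_pgroup el)) (Or.inl (abelian_sol inferInstance)), cent_zpowers]
    exact le_cent_sup (inf_le_right.trans (cent_anti (commutator_mono v1 le_rfl))) (inf_le_left.trans d3)
  have c3 : ⁅Q ⊓ 𝐂(C₁), zpowers x⁆ ≤ Q ⊓ 𝐂(C₁) ⊓ 𝐂(V₁) := by
    refine core h.fp ⟨inf_le_left.trans (pcore_le _ _), le_sup_left.trans g2⟩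
      ⟨(inf_le_left.trans inf_le_left).trans (pcore_le _ _), le_sup_left.trans g3⟩ inf_le_left
      (le_sup_right.trans g2) (le_sup_right.trans g3) (fun q hq => ⟨pow_mem hq 2, le_cent1_iff.1 fun v hv => ?_⟩)
      h.xH h.odd ?_
    · have := c1 (commutator_mem_commutator hv hq.1)
      exact sv_sq (mem_cent1_symm (cent_le_cent1 this hq.2)) (el.2 _ this.1)
    · refine (relIndex_le_of_le_right (commutator_mono inf_le_left le_rfl) (sv_ne0 _ _)).trans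
        ((relIndex_le_of_le_left d4 (sv_ne0 _ _)).trans ?_)
      rw [inf_relIndex_left]
      exact h.D_idx
  exact h.D_nc (h.DD.ge.trans ((commutator_mono d2 le_rfl).trans (c3.trans (inf_le_right.trans (cent_anti c2)))))

end Sv

end Cfsg.Lib.ND
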